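import Mathlib.RingTheory.Smooth.Local
import Mathlib.RingTheory.Smooth.Locus
import Mathlib.RingTheory.LocalRing.ResidueField.Ideal
import Mathlib.RingTheory.Kaehler.Basic
import Mathlib.LinearAlgebra.Dimension.Constructions
import Mathlib.LinearAlgebra.Dimension.OrzechProperty
import Mathlib.LinearAlgebra.TensorProduct.RightExactness

/-!
Smoothness of a quotient of a smooth algebra by a sequence whose relations have coefficients in the prime,
read on the fibre dimension of the differentials.
-/

set_option autoImplicit false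
set_option backward.isDefEq.respectTransparency false
set_option backward.isDefEq.respectTransparency.types false
set_option linter.style.haveILetI false

universe u

open TensorProduct Algebra

noncomputable section

namespace Groth.Agent.LciSmooth16

variable {R A B : Type u} [CommRing R] [CommRing A] [CommRing B] [Algebra R A] [Algebra R B] [Algebra A B]
  [IsScalarTower R A B]

/-- The fibre of the differentials of a surjective image is cut out by the differentials of the generators. -/
theorem finrank_add (hsurj : Function.Surjective (algebraMap A B)) {c : ℕ} (f : Fin c → A)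
    (hker : RingHom.ker (algebraMap A B) = Ideal.span (Set.range f)) (K : Type u) [Field K] [Algebra B K]
    [Algebra A K] [IsScalarTower A B K] [Module.Finite K (K ⊗[A] Ω[A⁄R])] :
    Module.finrank K (K ⊗[B] Ω[B⁄R]) +
        Module.finrank K (Submodule.span K (Set.range fun i => (1 : K) ⊗ₜ[A] KaehlerDifferential.D R A (f i))) =
      Module.finrank K (K ⊗[A] Ω[A⁄R]) := by
  let C := AlgebraTensorModule.cancelBaseChange A B K K Ω[A⁄R]
  let q : K ⊗[A] Ω[A⁄R] →ₗ[K] K ⊗[B] Ω[B⁄R] :=
    (LinearMap.baseChange K (KaehlerDifferential.mapBaseChange R A B)).comp C.symm.toLinearMap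
  have hmb := KaehlerDifferential.mapBaseChange_surjective R A B hsurj
  have hq : Function.Surjective q :=
    (LinearMap.lTensor_surjective K hmb).comp C.symm.surjective
  let v : Fin c → B ⊗[A] Ω[A⁄R] := fun i => 1 ⊗ₜ KaehlerDifferential.D R A (f i)
  have hex : Function.Exact (Submodule.span B (Set.range v)).subtype (KaehlerDifferential.mapBaseChange R A B) := by
    rw [LinearMap.exact_iff, Submodule.range_subtype]
    apply le_antisymm
    · intro y hy
      obtain ⟨x, rfl⟩ := (KaehlerDifferential.exact_kerCotangentToTensor_mapBaseChange R A B hsurj y).1 hy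
      obtain ⟨⟨g, hg⟩, rfl⟩ := Ideal.toCotangent_surjective _ x
      rw [KaehlerDifferential.kerCotangentToTensor_toCotangent]
      have hg' := hker ▸ hg
      obtain ⟨a, ha⟩ := Ideal.mem_span_range_iff_exists_fun.1 hg'
      show (1 : B) ⊗ₜ[A] KaehlerDifferential.D R A g ∈ _
      rw [← ha, map_sum, TensorProduct.tmul_sum]
      refine sum_mem fun i _ => ?_
      have h0 : algebraMap A B (f i) = 0 :=
        RingHom.mem_ker.1 (hker ▸ Ideal.subset_span ⟨i, rfl⟩)
      rw [Derivation.leibniz, TensorProduct.tmul_add, TensorProduct.tmul_smul, TensorProduct.tmul_smul,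
        ← algebraMap_smul B (f i), h0, zero_smul, add_zero, ← algebraMap_smul B (a i)]
      exact Submodule.smul_mem _ _ (Submodule.subset_span ⟨i, rfl⟩)
    · rw [Submodule.span_le]
      rintro _ ⟨i, rfl⟩
      have h0 : algebraMap A B (f i) = 0 :=
        RingHom.mem_ker.1 (hker ▸ Ideal.subset_span ⟨i, rfl⟩)
      simp [v, h0]
  have hkerq : LinearMap.ker q =
      Submodule.span K (Set.range fun i => (1 : K) ⊗ₜ[A] KaehlerDifferential.D R A (f i)) := by
    have h1 : Function.Exact (LinearMap.lTensor K (Submodule.span B (Set.range v)).subtype)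
        (LinearMap.lTensor K (KaehlerDifferential.mapBaseChange R A B)) := lTensor_exact (M := ↥(Submodule.span B (Set.range v))) K hex hmb
    apply le_antisymm
    · intro z hz
      obtain ⟨w, hw⟩ := (h1 (C.symm z)).1 hz
      rw [← C.apply_symm_apply z, ← hw]
      clear hw hz
      induction w with
      | zero => simp
      | add a b ha hb => rw [map_add, map_add]; exact add_mem ha hb
      | tmul k y =>
        obtain ⟨y, hy⟩ := y
        obtain ⟨b, rfl⟩ := (Submodule.mem_span_range_iff_exists_fun _).1 hy
        rw [LinearMap.lTensor_tmul, Submodule.subtype_apply, TensorProduct.tmul_sum, map_sum]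
        refine sum_mem fun i _ => ?_
        rw [TensorProduct.tmul_smul, TensorProduct.smul_tmul']
        show C ((b i • k) ⊗ₜ[B] ((1 : B) ⊗ₜ[A] _)) ∈ _
        rw [AlgebraTensorModule.cancelBaseChange_tmul, one_smul,
          show (b i • k) ⊗ₜ[A] KaehlerDifferential.D R A (f i) =
            (b i • k) • ((1 : K) ⊗ₜ[A] KaehlerDifferential.D R A (f i)) by
            rw [TensorProduct.smul_tmul', smul_eq_mul, mul_one]]
        exact Submodule.smul_mem _ _ (Submodule.subset_span ⟨i, rfl⟩)
    · rw [Submodule.span_le]
      rintro _ ⟨i, rfl⟩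
      rw [SetLike.mem_coe, LinearMap.mem_ker]
      show LinearMap.baseChange K (KaehlerDifferential.mapBaseChange R A B) (C.symm ((1 : K) ⊗ₜ[A] _)) = 0
      rw [AlgebraTensorModule.cancelBaseChange_symm_tmul, LinearMap.baseChange_tmul]
      have : KaehlerDifferential.mapBaseChange R A B (v i) = 0 :=
        (hex _).2 ⟨⟨v i, Submodule.subset_span ⟨i, rfl⟩⟩, rfl⟩
      rw [this, TensorProduct.tmul_zero]
  rw [← hkerq, ← LinearMap.finrank_range_add_finrank_ker q, LinearMap.range_eq_top.2 hq, finrank_top]

/-- A quotient of a smooth algebra by a sequence with relations in the prime is smooth at the prime iff the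
differentials of the sequence are independent there. -/
theorem isSmoothAt_iff_linearIndependent [Algebra.Smooth R A] (hsurj : Function.Surjective (algebraMap A B))
    {c : ℕ} (f : Fin c → A) (hker : RingHom.ker (algebraMap A B) = Ideal.span (Set.range f))
    (P : Ideal B) [P.IsPrime] (hrel : ∀ a : Fin c → A, ∑ i, a i * f i = 0 → ∀ i, algebraMap A B (a i) ∈ P) :
    Algebra.IsSmoothAt R P ↔
      LinearIndependent P.ResidueField (fun i => (1 : P.ResidueField) ⊗ₜ[A] KaehlerDifferential.D R A (f i)) := by
  let q : Ideal A := P.comap (algebraMap A B)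
  let Aq := Localization.AtPrime q
  let S := Localization.AtPrime P
  let K := P.ResidueField
  let I := RingHom.ker (algebraMap A B)
  let ρ : Aq →+* S := Localization.localRingHom q P (algebraMap A B) rfl
  letI : Algebra Aq S := ρ.toAlgebra
  have hρ : ∀ a : A, ρ (algebraMap A Aq a) = algebraMap B S (algebraMap A B a) := fun a =>
    Localization.localRingHom_to_map _ _ _ _ a
  haveI : IsScalarTower A Aq S := IsScalarTower.of_algebraMap_eq fun a => by
    rw [IsScalarTower.algebraMap_apply A B S]
    exact (hρ a).symm
  haveI : IsScalarTower R Aq S := IsScalarTower.of_algebraMap_eq fun r => by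
    rw [IsScalarTower.algebraMap_apply R A Aq, ← IsScalarTower.algebraMap_apply A Aq S,
      IsScalarTower.algebraMap_apply A B S, ← IsScalarTower.algebraMap_apply R A B,
      ← IsScalarTower.algebraMap_apply R B S]
  have hs : Function.Surjective (algebraMap Aq S) := by
    intro x
    obtain ⟨x, ⟨s, hs⟩, rfl⟩ := IsLocalization.exists_mk'_eq P.primeCompl x
    obtain ⟨x, rfl⟩ := hsurj x
    obtain ⟨s, rfl⟩ := hsurj s
    exact ⟨IsLocalization.mk' Aq x (⟨s, hs⟩ : q.primeCompl), Localization.localRingHom_mk' _ _ _ _ _ _⟩
  let J : Ideal Aq := Ideal.span (Set.range fun i => algebraMap A Aq (f i))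
  have hJ : J = I.map (algebraMap A Aq) := by
    show J = (RingHom.ker (algebraMap A B)).map _
    rw [hker, Ideal.map_span, ← Set.range_comp]
    rfl
  have hkerS : RingHom.ker (algebraMap Aq S) = J := by
    rw [hJ]
    refine le_antisymm (fun x hx => ?_) (Ideal.map_le_iff_le_comap.2 fun a ha => ?_)
    · obtain ⟨a, ⟨s, hs⟩, rfl⟩ := IsLocalization.exists_mk'_eq q.primeCompl x
      have h : ρ (IsLocalization.mk' Aq a (⟨s, hs⟩ : q.primeCompl)) = 0 := hx
      rw [Localization.localRingHom_mk', IsLocalization.mk'_eq_zero_iff] at h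
      obtain ⟨⟨t, ht⟩, h⟩ := h
      obtain ⟨t, rfl⟩ := hsurj t
      rw [← map_mul] at h
      rw [IsLocalization.mk'_mem_map_algebraMap_iff]
      exact ⟨t, ht, h⟩
    · rw [Ideal.mem_comap, RingHom.mem_ker]
      show ρ (algebraMap A Aq a) = 0
      rw [hρ, RingHom.mem_ker.1 ha, map_zero]
  haveI : EssFiniteType A Aq := .of_isLocalization _ q.primeCompl
  haveI : EssFiniteType R Aq := .comp _ A _
  haveI : FormallyEtale A Aq := .of_isLocalization q.primeCompl
  haveI : FormallySmooth R Aq := .comp R A Aq
  haveI : Module.Free Aq Ω[Aq⁄R] := Module.free_of_flat_of_isLocalRing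
  have hfg : (RingHom.ker (algebraMap Aq S)).FG := by
    rw [hkerS]
    exact Submodule.fg_span (Set.finite_range _)
  haveI : IsScalarTower A Aq K := IsScalarTower.of_algebraMap_eq fun a => by
    show algebraMap A K a = algebraMap S K (algebraMap Aq S (algebraMap A Aq a))
    rw [← IsScalarTower.algebraMap_apply A Aq S, IsScalarTower.algebraMap_apply A B S,
      ← IsScalarTower.algebraMap_apply B S K, ← IsScalarTower.algebraMap_apply A B K]
  refine (FormallySmooth.iff_injective_cotangentComplexBaseChange_residueField (R := R) (S := S) Aq hs hfg).trans ?_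
  let e : K ⊗[Aq] Ω[Aq⁄R] ≃ₗ[K] K ⊗[A] Ω[A⁄R] :=
    AlgebraTensorModule.congr (LinearEquiv.refl K K)
        (KaehlerDifferential.tensorKaehlerEquivOfFormallyEtale R A Aq).symm ≪≫ₗ
      AlgebraTensorModule.cancelBaseChange A Aq K K Ω[A⁄R]
  let θ : K ⊗[Aq] RingHom.ker (algebraMap Aq S) →ₗ[K] K ⊗[A] Ω[A⁄R] :=
    e.toLinearMap.comp (KaehlerDifferential.cotangentComplexBaseChange R S Aq K)
  let g : Fin c → RingHom.ker (algebraMap Aq S) := fun i =>
    ⟨algebraMap A Aq (f i), hkerS.ge (Ideal.subset_span ⟨i, rfl⟩)⟩
  have hθ : ∀ i, θ ((1 : K) ⊗ₜ g i) = (1 : K) ⊗ₜ[A] KaehlerDifferential.D R A (f i) := fun i => by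
    show AlgebraTensorModule.cancelBaseChange A Aq K K Ω[A⁄R]
      (AlgebraTensorModule.congr (LinearEquiv.refl K K)
        (KaehlerDifferential.tensorKaehlerEquivOfFormallyEtale R A Aq).symm
        ((1 : K) • ((1 : K) ⊗ₜ[Aq] KaehlerDifferential.D R Aq (algebraMap A Aq (f i))))) = _
    rw [one_smul, AlgebraTensorModule.congr_tmul, LinearEquiv.refl_apply,
      KaehlerDifferential.tensorKaehlerEquivOfFormallyEtale_symm_D_algebraMap,
      AlgebraTensorModule.cancelBaseChange_tmul, one_smul]
  -- the generators form a basis of the fibre of the ideal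
  let π : (Fin c → Aq) →ₗ[Aq] RingHom.ker (algebraMap Aq S) := Fintype.linearCombination Aq g
  have hπapp : ∀ v, (π v : Aq) = ∑ i, v i * algebraMap A Aq (f i) := fun v => by
    simp [π, Fintype.linearCombination_apply, g]
  have hπ : Function.Surjective π := by
    intro x
    obtain ⟨a, ha⟩ := Ideal.mem_span_range_iff_exists_fun.1 (hkerS.le x.2)
    exact ⟨a, Subtype.ext ((hπapp a).trans ha)⟩
  have hπK : Function.Injective (π.baseChange K) := by
    refine (injective_iff_map_eq_zero _).2 fun z hz => ?_
    obtain ⟨w, hw⟩ := (lTensor_exact K (LinearMap.exact_subtype_ker_map π) hπ z).1 hz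
    rw [← hw]
    clear hw hz
    induction w with
    | zero => simp
    | add a b ha hb => rw [map_add, ha, hb, add_zero]
    | tmul k y =>
      obtain ⟨y, hy⟩ := y
      have hm : ∀ i, algebraMap Aq K (y i) = 0 := by
        obtain ⟨⟨s, hs'⟩, hints⟩ := IsLocalization.exist_integer_multiples_of_finite q.primeCompl y
        choose a ha using hints
        have h0 : algebraMap A Aq (∑ i, a i * f i) = 0 := by
          rw [map_sum]
          have h1 : algebraMap A Aq s * ∑ i, y i * algebraMap A Aq (f i) = 0 := by
            rw [← hπapp, LinearMap.mem_ker.1 hy, ZeroMemClass.coe_zero, mul_zero]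
          rw [← h1, Finset.mul_sum]
          refine Finset.sum_congr rfl fun i _ => ?_
          rw [map_mul, ha, Algebra.smul_def, mul_assoc]
        obtain ⟨⟨t, ht⟩, h2⟩ := (IsLocalization.map_eq_zero_iff q.primeCompl Aq _).1 h0
        intro i
        have h3 : algebraMap A B (t * a i) ∈ P := by
          refine hrel (fun j => t * a j) ?_ i
          rw [← h2]
          simp [Finset.mul_sum, mul_assoc]
        have h4 : a i ∈ q := (Ideal.IsPrime.mem_or_mem ‹P.IsPrime› (map_mul (algebraMap A B) t (a i) ▸ h3)).resolve_left ht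
        have h5 : algebraMap A K (a i) = 0 := by
          rw [IsScalarTower.algebraMap_apply A B K]
          exact Ideal.algebraMap_residueField_eq_zero.2 h4
        have h6 : algebraMap A K s ≠ 0 := fun h => hs' (by
          rw [IsScalarTower.algebraMap_apply A B K] at h
          exact (Ideal.algebraMap_residueField_eq_zero (I := P)).1 h)
        rw [IsScalarTower.algebraMap_apply A Aq K, ha, Algebra.smul_def, map_mul,
          ← IsScalarTower.algebraMap_apply A Aq K] at h5
        exact (mul_eq_zero.1 h5).resolve_left h6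
      show k ⊗ₜ[Aq] y = 0
      rw [pi_eq_sum_univ' y, TensorProduct.tmul_sum]
      refine Finset.sum_eq_zero fun i _ => ?_
      rw [TensorProduct.tmul_smul, TensorProduct.smul_tmul', Algebra.smul_def, hm i, zero_mul,
        TensorProduct.zero_tmul]
  let b := ((Pi.basisFun Aq (Fin c)).baseChange K).map
    (LinearEquiv.ofBijective (π.baseChange K) ⟨hπK, LinearMap.lTensor_surjective K hπ⟩)
  have hb : ∀ i, b i = (1 : K) ⊗ₜ g i := fun i => by
    simp only [b, Module.Basis.map_apply, Module.Basis.baseChange_apply, Pi.basisFun_apply,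
      LinearEquiv.ofBijective_apply, LinearMap.baseChange_tmul]
    congr 1
    exact Subtype.ext (by simp [hπapp, Pi.single_apply, g])
  show Function.Injective (KaehlerDifferential.cotangentComplexBaseChange R S Aq K) ↔ _
  rw [← e.comp_injective]
  show Function.Injective θ ↔ _
  rw [show (fun i => (1 : K) ⊗ₜ[A] KaehlerDifferential.D R A (f i)) = θ ∘ b from
    funext fun i => by rw [Function.comp_apply, hb, hθ]]
  exact ⟨fun h => b.linearIndependent.map' θ (LinearMap.ker_eq_bot.2 h),
    fun h => LinearMap.injective_of_linearIndependent b.span_eq h⟩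

/-- Smoothness at the prime iff the fibre of the differentials has at most the expected dimension. -/
theorem isSmoothAt_iff_finrank_le [Algebra.Smooth R A] (hsurj : Function.Surjective (algebraMap A B))
    {c m : ℕ} (f : Fin c → A) (hker : RingHom.ker (algebraMap A B) = Ideal.span (Set.range f))
    (P : Ideal B) [P.IsPrime] (hrel : ∀ a : Fin c → A, ∑ i, a i * f i = 0 → ∀ i, algebraMap A B (a i) ∈ P)
    [Module.Free A Ω[A⁄R]] (hrk : Module.finrank A Ω[A⁄R] = m + c) :
    Algebra.IsSmoothAt R P ↔ Module.finrank P.ResidueField (P.ResidueField ⊗[B] Ω[B⁄R]) ≤ m := by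
  let K := P.ResidueField
  have : Nontrivial A := (algebraMap A K).domain_nontrivial
  have h := finrank_add (R := R) hsurj f hker K
  have h1 : Module.finrank K (K ⊗[A] Ω[A⁄R]) = m + c := by rw [Module.finrank_baseChange, hrk]
  rw [h1] at h
  rw [isSmoothAt_iff_linearIndependent hsurj f hker P hrel, linearIndependent_iff_card_eq_finrank_span,
    Set.finrank, Fintype.card_fin]
  have h2 := finrank_range_le_card (R := K) (fun i => (1 : K) ⊗ₜ[A] KaehlerDifferential.D R A (f i))
  rw [Set.finrank, Fintype.card_fin] at h2
  have h' : Module.finrank P.ResidueField (P.ResidueField ⊗[B] Ω[B⁄R]) +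
      Module.finrank P.ResidueField (Submodule.span P.ResidueField (Set.range fun i => (1 : P.ResidueField) ⊗ₜ[A] KaehlerDifferential.D R A (f i))) = m + c := h
  have h2' : Module.finrank P.ResidueField (Submodule.span P.ResidueField (Set.range fun i => (1 : P.ResidueField) ⊗ₜ[A] KaehlerDifferential.D R A (f i))) ≤ c := h2
  omega

end Groth.Agent.LciSmooth16
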